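import Groth.Prelude.Def_SixF3
import Groth.Agent.S3502
import Groth.Agent.EtPic91.Kummer
import Groth.Agent.EtPic91.KummerTorsion
import Groth.Agent.EtPic91.H1Gm
import Groth.Agent.S5707
import Groth.Agent.EtCore45.MuRoot
import Mathlib.RingTheory.PrincipalIdealDomain
import Mathlib.AlgebraicGeometry.Properties
import Mathlib.RingTheory.PicardGroup
import Groth.Agent.LimTop61.ShQuot
import Groth.Agent.Cons51.SectFinEt

/-!
Cohomology of constant sheaves on spectra of principal ideal domains with roots of all units and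
generic cohomological dimension at most one vanishes in positive degrees.
-/

set_option autoImplicit false
set_option backward.isDefEq.respectTransparency.types false
set_option linter.style.haveILetI false
universe u

open CategoryTheory CategoryTheory.Limits CategoryTheory.Abelian AlgebraicGeometry Opposite

namespace Groth.Agent.SBC51

variable (L : Type u) [CommRing L] [IsDomain L] [IsPrincipalIdealRing L]

theorem dim_pid : topologicalKrullDim (Spec (CommRingCat.of L)) ≤ 1 := by
  show topologicalKrullDim (PrimeSpectrum L) ≤ 1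
  rw [PrimeSpectrum.topologicalKrullDim_eq_ringKrullDim]
  exact Ring.krullDimLE_iff.1 inferInstance

theorem residueField_closed (hres : ∀ (P : Ideal L) [P.IsMaximal], IsSepClosed (FractionRing (L ⧸ P)))
    (x : Spec (CommRingCat.of L)) (hx : IsClosed ({x} : Set ↥(Spec (CommRingCat.of L)))) :
    IsSepClosed ((Spec (CommRingCat.of L)).residueField x) := by
  have hmax : x.asIdeal.IsMaximal := (PrimeSpectrum.isClosed_singleton_iff_isMaximal x).1 hx
  have := hres x.asIdeal
  let e₁ : x.asIdeal.ResidueField ≃+* FractionRing (L ⧸ x.asIdeal) :=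
    (IsLocalization.algEquiv (nonZeroDivisors (L ⧸ x.asIdeal)) _ _).toRingEquiv
  have := LimTop61.isSepClosed_of_ringEquiv e₁.symm
  exact LimTop61.isSepClosed_of_ringEquiv (Scheme.Spec.residueFieldIso (CommRingCat.of L) x).commRingCatIsoToRingEquiv.symm

theorem eq_generic_of_isMax {x : Spec (CommRingCat.of L)} (h : closure {x} ∈ irreducibleComponents (PrimeSpectrum L)) :
    x.asIdeal = ⊥ := by
  have h1 : closure ({x} : Set (PrimeSpectrum L)) = Set.univ := by
    rw [irreducibleComponents_eq_singleton (X := PrimeSpectrum L)] at h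
    exact h
  have h2 : (⟨⊥, Ideal.isPrime_bot⟩ : PrimeSpectrum L) ∈ closure ({x} : Set (PrimeSpectrum L)) := h1 ▸ trivial
  have h3 := (PrimeSpectrum.le_iff_specializes _ _).2 (specializes_iff_mem_closure.2 h2)
  exact le_bot_iff.1 h3

theorem eq_zero_of_nsmul {M : Type*} [AddCommMonoid M] (d : ℕ) (hd : 0 < d)
    (h : ∀ ℓ : ℕ, ℓ.Prime → ℓ ∣ d → ∀ y : M, ℓ • y = 0 → y = 0) : ∀ y : M, d • y = 0 → y = 0 := by
  induction d using Nat.strong_induction_on with
  | _ d IH =>
    intro y hy
    rcases eq_or_ne d 1 with rfl | h1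
    · rwa [one_nsmul] at hy
    obtain ⟨ℓ, hℓ, e, he⟩ := Nat.exists_prime_and_dvd h1
    have he0 : 0 < e := by rcases e.eq_zero_or_pos with rfl | h; · simp at he; omega
                           · exact h
    subst he
    exact IH e (by nlinarith [hℓ.two_le]) he0 (fun l hl hle => h l hl (hle.mul_left ℓ)) y
      (h ℓ hℓ (dvd_mul_right _ _) _ (by rwa [smul_smul]))

theorem isFractionRing_residue (x : Spec (CommRingCat.of L)) (hx : x.asIdeal = ⊥) :
    letI : Algebra L ((Spec (CommRingCat.of L)).residueField x) :=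
      ((Scheme.Spec.residueFieldIso (CommRingCat.of L) x).commRingCatIsoToRingEquiv.symm.toRingHom.comp
        (algebraMap L x.asIdeal.ResidueField)).toAlgebra
    IsFractionRing L ((Spec (CommRingCat.of L)).residueField x) := by
  letI : Algebra L ((Spec (CommRingCat.of L)).residueField x) :=
    ((Scheme.Spec.residueFieldIso (CommRingCat.of L) x).commRingCatIsoToRingEquiv.symm.toRingHom.comp
      (algebraMap L x.asIdeal.ResidueField)).toAlgebra
  let e := (Scheme.Spec.residueFieldIso (CommRingCat.of L) x).commRingCatIsoToRingEquiv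
  have hinj : Function.Injective (algebraMap L ((Spec (CommRingCat.of L)).residueField x)) := by
    refine e.symm.injective.comp ((injective_iff_map_eq_zero _).2 fun a ha => ?_)
    rw [Ideal.algebraMap_residueField_eq_zero, hx, Ideal.mem_bot] at ha
    exact ha
  have := (faithfulSMul_iff_algebraMap_injective L ((Spec (CommRingCat.of L)).residueField x)).2 hinj
  refine IsFractionRing.of_field L _ fun z => ?_
  obtain ⟨a, b, -, hab⟩ := IsFractionRing.div_surjective (L ⧸ x.asIdeal) (e z)
  obtain ⟨a', rfl⟩ := Ideal.Quotient.mk_surjective a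
  obtain ⟨b', rfl⟩ := Ideal.Quotient.mk_surjective b
  refine ⟨a', b', ?_⟩
  show z = e.symm _ / e.symm _
  rw [← map_div₀, RingEquiv.eq_symm_apply, ← hab]
  rfl

theorem stalk_facts (x : Spec (CommRingCat.of L)) (hx : x.asIdeal = ⊥) :
    ∃ (_ : Algebra L ((Spec (CommRingCat.of L)).presheaf.stalk x)),
      IsFractionRing L ((Spec (CommRingCat.of L)).presheaf.stalk x) ∧
      IsField ((Spec (CommRingCat.of L)).presheaf.stalk x) := by
  let A := (Spec (CommRingCat.of L)).presheaf.stalk x
  letI : Algebra L A := StructureSheaf.stalkAlgebra L x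
  haveI : IsLocalization.AtPrime A x.asIdeal := StructureSheaf.IsLocalization.to_stalk L x
  have hsub : x.asIdeal.primeCompl = nonZeroDivisors L := by
    ext a
    rw [mem_nonZeroDivisors_iff_ne_zero]
    show a ∉ x.asIdeal ↔ a ≠ 0
    rw [hx, Ideal.mem_bot]
  have hfr : IsFractionRing L A := by
    have : IsLocalization x.asIdeal.primeCompl A := inferInstance
    rwa [hsub] at this
  refine ⟨inferInstance, hfr, ?_⟩
  letI := IsFractionRing.toField L (K := A)
  exact Field.toIsField A

/-- Positive degree cohomology of roots of unity on such a scheme vanishes. -/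
theorem subsingleton_H_mu_pid (d : ℕ) (hd : 0 < d) (hu : IsUnit (d : L)) (hroot : ∀ v : Lˣ, ∃ w : L, w ^ d = v)
    (hres : ∀ (P : Ideal L) [P.IsMaximal], IsSepClosed (FractionRing (L ⧸ P)))
    (hcd : ∀ (F : Type u) [Field F] [Algebra L F] [IsFractionRing L F], ∀ ℓ : ℕ, ℓ.Prime → ℓ ∣ d →
      Dix.CohDimLEAt (Spec (CommRingCat.of F)) ℓ 1) (i : ℕ) (hi : 0 < i) :
    Subsingleton (EtCoh.H (Spec (CommRingCat.of L)) (EtCoh.mu (Spec (CommRingCat.of L)) d) i) := by
  let X := Spec (CommRingCat.of L)
  have hinv : Dix.InvertibleOn X d := fun x h =>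
    (hu.map ((Scheme.ΓSpecIso (CommRingCat.of L)).inv ≫ X.evaluation ⊤ x trivial).hom).ne_zero
      (by rw [map_natCast]; exact h)
  have hΓ : IsUnit (d : Γ(X, ⊤)) := by simpa using hu.map (Scheme.ΓSpecIso (CommRingCat.of L)).inv.hom
  rcases Nat.lt_or_ge 2 i with h2 | h2
  · refine S3502.result X (dim_pid L) d hd hinv (fun x hx ℓ hℓ hdvd => ?_) (residueField_closed L hres) i h2
    have hx0 := eq_generic_of_isMax L hx
    let F := X.residueField x
    letI : Algebra L F := ((Scheme.Spec.residueFieldIso (CommRingCat.of L) x).commRingCatIsoToRingEquiv.symm.toRingHom.comp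
        (algebraMap L x.asIdeal.ResidueField)).toAlgebra
    have : IsFractionRing L F := isFractionRing_residue L x hx0
    exact hcd F ℓ hℓ hdvd
  interval_cases i
  · have : Subsingleton (CommRing.Pic L) := inferInstance
    obtain ⟨e⟩ := EtPic91.nonempty_H1_mu_equiv L d hu (G := PUnit.{u + 1}) 0 (fun _ => ⟨0, rfl⟩) fun v => by
      refine ⟨fun _ => ?_, fun _ => rfl⟩
      obtain ⟨w, hw⟩ := hroot v.toMul
      have hwu : IsUnit w := (isUnit_pow_iff hd.ne').1 (hw ▸ v.toMul.isUnit)
      exact ⟨Additive.ofMul hwu.unit, Additive.toMul.injective (Units.ext hw)⟩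
    exact e.toEquiv.subsingleton
  · have : Subsingleton (CommRing.Pic L) := inferInstance
    have hflim : ∀ x : X, PreservesFiniteLimits (EtCoh.pull (X.fromSpecStalk x)) := fun x =>
      Unr55.EtSh.preservesFiniteLimits_pull _
    have hepi := Unr55.EtSh.epi_powMap X d hΓ
    have hS := EtSix.kummerShortExact hepi
    have h1 : Subsingleton (EtCoh.H X (EtCoh.Gm X) 1) := EtPic91.H1_Gm_subsingleton L
    refine subsingleton_of_forall_eq 0 fun ξ => ?_
    have hξ0 : ξ.comp (Ext.mk₀ (EtCoh.muι X d)) (add_zero 2) = 0 := by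
      refine S5707.result X (dim_pid L) (fun x hx => ?_) (residueField_closed L hres) _
        fun x hx => ?_
      · obtain ⟨y, hyx, hy⟩ := hx
        have hne : x.asIdeal ≠ ⊥ := fun h0 => hyx (PrimeSpectrum.ext (le_antisymm
          ((PrimeSpectrum.le_iff_specializes y x).2 hy) (h0 ▸ bot_le)))
        obtain ⟨a, ha, ha0⟩ := Submodule.exists_mem_ne_zero_of_ne_bot hne
        letI : Algebra L (X.presheaf.stalk x) := StructureSheaf.stalkAlgebra L x
        haveI : IsLocalization.AtPrime (X.presheaf.stalk x) x.asIdeal := StructureSheaf.IsLocalization.to_stalk L x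
        have hle : x.asIdeal.primeCompl ≤ nonZeroDivisors L := x.asIdeal.primeCompl_le_nonZeroDivisors
        have := IsLocalization.isDomain_of_le_nonZeroDivisors (X.presheaf.stalk x) hle
        exact ⟨algebraMap L _ a, (IsLocalization.AtPrime.to_map_mem_maximal_iff _ x.asIdeal a).2 ha,
          mem_nonZeroDivisors_of_ne_zero fun h0 => ha0 (IsLocalization.injective _ hle (h0.trans (map_zero _).symm))⟩
      · have hx0 : x.asIdeal = ⊥ := (congrArg PrimeSpectrum.asIdeal (hx (⟨⊥, Ideal.isPrime_bot⟩ : PrimeSpectrum L)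
          ((PrimeSpectrum.le_iff_specializes _ _).1 bot_le))).symm
        obtain ⟨alg, hfr, hfield⟩ := stalk_facts L x hx0
        let A := X.presheaf.stalk x
        have hcdA : ∀ ℓ : ℕ, ℓ.Prime → ℓ ∣ d → Dix.CohDimLEAt (Spec A) ℓ 1 := fun ℓ hℓ hdvd =>
          @hcd A hfield.toField alg hfr ℓ hℓ hdvd
        refine eq_zero_of_nsmul d hd (fun ℓ hℓ hdvd y hy => ?_) _ ?_
        · refine (EtPic91.primary_torsion_vanish (Spec A) ℓ 1 (hcdA ℓ hℓ hdvd)).2 (fun z h0 => ?_) 2 (by omega) y
            ⟨1, by rwa [pow_one]⟩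
          obtain ⟨e, rfl⟩ := hdvd
          refine (((hu.map (algebraMap L A)).map ((Scheme.ΓSpecIso A).inv ≫ (Spec A).evaluation ⊤ z trivial).hom)).ne_zero ?_
          rw [map_natCast, map_natCast, Nat.cast_mul, h0, zero_mul]
        · rw [← map_nsmul]
          convert map_zero (EtLim.HGmPull (X.fromSpecStalk x) 2)
          have hk : EtCoh.muι X d ≫ EtCoh.powMap X d = 0 := kernel.condition _
          rw [EtCoh.powMap, Preadditive.comp_nsmul, Category.comp_id] at hk
          refine (map_nsmul ((Ext.mk₀ (EtCoh.muι X d)).postcomp _ (add_zero 2)) d ξ).symm.trans ?_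
          show (d • ξ).comp (Ext.mk₀ (EtCoh.muι X d)) (add_zero 2) = 0
          rw [show (d • ξ).comp (Ext.mk₀ (EtCoh.muι X d)) (add_zero 2) = ξ.comp (Ext.mk₀ (d • EtCoh.muι X d)) (add_zero 2) by
            rw [Cons51.mk₀_nsmul]
            exact (map_nsmul ((Ext.mk₀ (EtCoh.muι X d)).postcomp _ (add_zero 2)) d ξ).trans
              (map_nsmul (ξ.precomp _ (add_zero 2)) d (Ext.mk₀ (EtCoh.muι X d))).symm,
            hk, Ext.mk₀_zero, Ext.comp_zero]
    obtain ⟨y, rfl⟩ := Ext.covariant_sequence_exact₁ _ hS ξ hξ0 rfl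
    refine (congrArg (fun z => Ext.comp z hS.extClass rfl) (h1.elim y 0)).trans ?_
    exact Ext.zero_comp _ _ _ _ _

end Groth.Agent.SBC51
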