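import Groth.Agent.SBC51.ValHens
import Mathlib.FieldTheory.IsSepClosed
import Mathlib.RingTheory.Localization.Ideal
import Mathlib.RingTheory.Ideal.Oka
import Mathlib.RingTheory.DedekindDomain.Basic

/-!
The generic fibre of a strict henselization of the affine line of a valuation ring with algebraically
closed fraction field.
-/

set_option autoImplicit false
set_option backward.isDefEq.respectTransparency.types false
set_option synthInstance.maxHeartbeats 100000
set_option linter.style.haveILetI false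
universe u

open Polynomial IsLocalRing
open Groth.Agent.Henz21 (Pt H)

namespace Groth.Agent.SBC51

variable {V : Type u} [CommRing V] [IsDomain V] [ValuationRing V] {Ω : Type u} [Field Ω] [Algebra V[X] Ω]
  (hΩ : OverClosed V Ω)

variable (V Ω) in
/-- The nonzero constants. -/
noncomputable abbrev csts : Submonoid (H V[X] Ω) := (nonZeroDivisors V).map (cH V Ω)

variable {L : Type u} [CommRing L] [Algebra (H V[X] Ω) L] [IsLocalization (csts V Ω) L]
  {K : Type u} [Field K] [Algebra V K] [IsFractionRing V K]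

variable (V Ω L K) in
/-- The constants of the generic fibre. -/
noncomputable def phiK : K →+* L :=
  IsLocalization.lift (M := nonZeroDivisors V) (g := (algebraMap (H V[X] Ω) L).comp (cH V Ω)) fun c =>
    IsLocalization.map_units L (⟨cH V Ω c, Submonoid.mem_map_of_mem (cH V Ω) c.2⟩ : csts V Ω)

theorem phiK_algebraMap (v : V) :
    phiK V Ω L K (algebraMap V K v) = algebraMap (H V[X] Ω) L (cH V Ω v) :=
  IsLocalization.lift_eq _ _

variable (V Ω L K) in
/-- Polynomials in the generic fibre. -/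
noncomputable def polyK : K[X] →+* L := eval₂RingHom (phiK V Ω L K) (algebraMap (H V[X] Ω) L (algebraMap V[X] _ X))

theorem polyK_map (f : V[X]) :
    polyK V Ω L K (f.map (algebraMap V K)) = algebraMap (H V[X] Ω) L (algebraMap V[X] _ f) := by
  have : (polyK V Ω L K).comp (mapRingHom (algebraMap V K)) =
      (algebraMap (H V[X] Ω) L).comp (algebraMap V[X] _) := by
    refine Polynomial.ringHom_ext (fun v => ?_) ?_
    · simp [polyK, phiK_algebraMap]
    · simp [polyK]
  exact RingHom.congr_fun this f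

include hΩ in
theorem csts_le_nonZeroDivisors : csts V Ω ≤ nonZeroDivisors (H V[X] Ω) := by
  have := isDomain_hens hΩ
  rintro _ ⟨c, hc, rfl⟩
  exact mem_nonZeroDivisors_of_ne_zero fun h =>
    nonZeroDivisors.ne_zero hc (cH_injective hΩ (h.trans (map_zero _).symm))

include hΩ in
theorem isDomain_generic : IsDomain L :=
  have := isDomain_hens hΩ
  IsLocalization.isDomain_of_le_nonZeroDivisors L (csts_le_nonZeroDivisors hΩ)

include hΩ in
theorem injective_generic : Function.Injective (algebraMap (H V[X] Ω) L) :=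
  IsLocalization.injective L (M := csts V Ω) (csts_le_nonZeroDivisors hΩ)

variable [HenselianLocalRing V] [IsAlgClosed (ResidueField V)] [IsAlgClosed K]

variable (K) in
include K in

include hΩ in
/-- A nonzero prime of the generic fibre is generated by a coordinate. -/
theorem exists_span_prime (P : Ideal L) [P.IsPrime] (hP : P ≠ ⊥) :
    ∃ a : V, algebraMap V[X] Ω X = algebraMap V[X] Ω (C a) ∧
      P = Ideal.span {algebraMap (H V[X] Ω) L (algebraMap V[X] _ (X - C a))} := by
  have := isDomain_hens hΩ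
  obtain ⟨z, hzP, hz⟩ := Submodule.exists_mem_ne_zero_of_ne_bot hP
  obtain ⟨h, c, rfl⟩ := IsLocalization.exists_mk'_eq (csts V Ω) z
  have hhP : algebraMap (H V[X] Ω) L h ∈ P := by
    rw [← IsLocalization.mk'_spec L h c]
    exact P.mul_mem_right _ hzP
  obtain ⟨f, hf, hdvd⟩ := exists_dvd_poly hΩ h fun h0 => hz (by rw [h0, IsLocalization.mk'_zero])
  have hfP : polyK V Ω L K (f.map (algebraMap V K)) ∈ P := by
    rw [polyK_map]
    exact P.mem_of_dvd (map_dvd _ hdvd) hhP
  have hfK : f.map (algebraMap V K) ≠ 0 := (Polynomial.map_ne_zero_iff (IsFractionRing.injective V K)).2 hf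
  rw [(IsAlgClosed.splits (f.map (algebraMap V K))).eq_prod_roots, map_mul, map_multiset_prod, Multiset.map_map] at hfP
  rcases Ideal.IsPrime.mem_or_mem inferInstance hfP with h1 | h1
  · refine absurd (P.eq_top_of_isUnit_mem h1 ?_) Ideal.IsPrime.ne_top'
    exact (isUnit_C.2 (Ne.isUnit (leadingCoeff_ne_zero.2 hfK))).map _
  obtain ⟨_, hmem, hαP⟩ := (Ideal.IsPrime.multiset_prod_mem_iff_exists_mem inferInstance _).1 h1
  obtain ⟨α, -, rfl⟩ := Multiset.mem_map.1 hmem
  simp only [Function.comp_apply] at hαP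
  -- the root is integral and lies over the point
  have hnu : ∀ {w : H V[X] Ω}, IsUnit w → algebraMap (H V[X] Ω) L w ∉ P := fun hw hwP =>
    Ideal.IsPrime.ne_top' (P.eq_top_of_isUnit_mem hwP (hw.map _))
  obtain ⟨a, rfl⟩ : ∃ a : V, algebraMap V K a = α := by
    rcases eq_or_ne α 0 with rfl | hα
    · exact ⟨0, map_zero _⟩
    rcases ValuationRing.isInteger_or_isInteger V α with h2 | ⟨b, hb⟩
    · exact h2
    by_cases hbm : b ∈ maximalIdeal V
    · exfalso
      refine hnu (w := algebraMap V[X] _ (C b * X - 1)) (H.isUnit_of_isUnit_proj (isUnit_iff_ne_zero.2 ?_)) ?_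
      · rw [AlgHom.commutes, map_sub, map_mul, (hΩ b).2 hbm, zero_mul, map_one, zero_sub]
        exact neg_ne_zero.2 one_ne_zero
      · rw [← polyK_map (K := K) (L := L) (Ω := Ω), Polynomial.map_sub, Polynomial.map_mul, Polynomial.map_C, Polynomial.map_X,
          Polynomial.map_one, hb, show C α⁻¹ * X - 1 = C α⁻¹ * (X - C α) by
            rw [mul_sub, ← C_mul, inv_mul_cancel₀ hα, C_1], map_mul]
        exact P.mul_mem_left _ hαP
    · obtain ⟨u, hu⟩ := IsLocalRing.notMem_maximalIdeal.1 hbm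
      refine ⟨((u⁻¹ : Vˣ) : V), ?_⟩
      have h2 : algebraMap V K ((u⁻¹ : Vˣ) : V) * α⁻¹ = 1 := by rw [← hb, ← hu, ← map_mul, Units.inv_mul, map_one]
      exact eq_of_mul_inv_eq_one h2
  have hmemP : algebraMap (H V[X] Ω) L (algebraMap V[X] _ (X - C a)) ∈ P := by
    rw [← polyK_map (K := K) (L := L) (Ω := Ω), Polynomial.map_sub, Polynomial.map_X, Polynomial.map_C]
    exact hαP
  have ha : algebraMap V[X] Ω X = algebraMap V[X] Ω (C a) := by
    by_contra hne
    refine hnu (H.isUnit_of_isUnit_proj (isUnit_iff_ne_zero.2 ?_)) hmemP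
    rw [AlgHom.commutes, map_sub]
    exact sub_ne_zero.2 hne
  refine ⟨a, ha, le_antisymm (fun w hw => ?_) ((Ideal.span_singleton_le_iff_mem P).2 hmemP)⟩
  obtain ⟨g, d, rfl⟩ := IsLocalization.exists_mk'_eq (csts V Ω) w
  obtain ⟨v, w', rfl⟩ := exists_eq_cst_add hΩ ha g
  have h3 : algebraMap (H V[X] Ω) L (cH V Ω v + algebraMap V[X] _ (X - C a) * w') ∈ P := by
    rw [← IsLocalization.mk'_spec L _ d]
    exact P.mul_mem_right _ hw
  rw [map_add, map_mul] at h3
  have hv : v = 0 := by
    by_contra hv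
    refine Ideal.IsPrime.ne_top' (P.eq_top_of_isUnit_mem ((P.add_mem_iff_left (P.mul_mem_right _ hmemP)).1 h3) ?_)
    exact IsLocalization.map_units L
      (⟨cH V Ω v, Submonoid.mem_map_of_mem (cH V Ω) (mem_nonZeroDivisors_of_ne_zero hv)⟩ : csts V Ω)
  rw [Ideal.mem_span_singleton, IsLocalization.mk'_eq_mul_mk'_one, hv, map_zero, zero_add, map_mul, mul_assoc]
  exact dvd_mul_right _ _

variable (K) in
include K in
include hΩ in
theorem isPrincipal_generic : IsPrincipalIdealRing L :=
  IsPrincipalIdealRing.of_prime fun P hP => by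
    by_cases h : P = ⊥
    · exact h ▸ bot_isPrincipal
    · obtain ⟨a, -, ha⟩ := exists_span_prime hΩ K P h
      exact ⟨⟨_, ha⟩⟩

variable (K) in
include K in
omit [HenselianLocalRing V] [IsAlgClosed (ResidueField V)] in
include hΩ in
/-- Units of the generic fibre have all roots of invertible order. -/
theorem exists_pow_eq_unit [IsSepClosed Ω] {d : ℕ} (hd : (d : Ω) ≠ 0) (u : Lˣ) : ∃ w : L, w ^ d = u := by
  have := isDomain_hens hΩ
  obtain ⟨g, c, hg⟩ := IsLocalization.exists_mk'_eq (csts V Ω) (u : L)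
  obtain ⟨g', c', hg'⟩ := IsLocalization.exists_mk'_eq (csts V Ω) ((u⁻¹ : Lˣ) : L)
  obtain ⟨_, ⟨c₀, hc₀, rfl⟩⟩ := c
  obtain ⟨_, ⟨c₀', hc₀', rfl⟩⟩ := c'
  have h1 : g * g' = cH V Ω (c₀ * c₀') := by
    apply injective_generic (L := L) hΩ
    rw [map_mul, map_mul, map_mul,
      ← IsLocalization.mk'_spec L g (⟨_, Submonoid.mem_map_of_mem (cH V Ω) hc₀⟩ : csts V Ω),
      ← IsLocalization.mk'_spec L g' (⟨_, Submonoid.mem_map_of_mem (cH V Ω) hc₀'⟩ : csts V Ω), hg, hg',
      mul_mul_mul_comm, Units.mul_inv, one_mul]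
  obtain ⟨γ, v, hγ, rfl⟩ := eq_cst_mul_unit_of_mul_eq hΩ
    (mul_ne_zero (nonZeroDivisors.ne_zero hc₀) (nonZeroDivisors.ne_zero hc₀')) h1
  have hd0 : d ≠ 0 := fun h => hd (by rw [h, Nat.cast_zero])
  obtain ⟨κ, hκ⟩ := IsAlgClosed.exists_pow_nat_eq (algebraMap V K γ / algebraMap V K c₀) (Nat.pos_of_ne_zero hd0)
  let P : (H V[X] Ω)[X] := X ^ d - C (v : H V[X] Ω)
  have hv : H.proj V[X] Ω (v : H V[X] Ω) ≠ 0 := (v.isUnit.map (H.proj V[X] Ω)).ne_zero
  have : NeZero (d : Ω) := ⟨hd⟩
  obtain ⟨x, hx⟩ := IsSepClosed.exists_pow_nat_eq (k := Ω) (H.proj V[X] Ω (v : H V[X] Ω)) d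
  obtain ⟨r, hr, -⟩ := H.exists_root P (monic_X_pow_sub_C _ hd0) x (by simp [P, hx]) (by
    simp only [P, derivative_sub, derivative_C, sub_zero, derivative_X_pow, eval₂_mul, eval₂_pow, eval₂_X,
      map_natCast]
    rw [← C_eq_natCast, eval₂_C, map_natCast]
    refine isUnit_iff_ne_zero.2 (mul_ne_zero hd (pow_ne_zero _ fun h0 => hv ?_))
    rw [← hx, h0, zero_pow hd0])
  have hr' : r ^ d = (v : H V[X] Ω) := by simpa [P, sub_eq_zero] using hr
  refine ⟨phiK V Ω L K κ * algebraMap _ L r, ?_⟩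
  rw [mul_pow, ← map_pow, ← map_pow, hr', hκ, div_eq_mul_inv, map_mul, ← hg]
  rw [IsLocalization.eq_mk'_iff_mul_eq]
  show _ * algebraMap _ L (cH V Ω c₀) = _
  rw [map_mul, phiK_algebraMap, ← phiK_algebraMap (K := K) (L := L) (Ω := Ω) c₀]
  have hc0 : algebraMap V K c₀ ≠ 0 := fun h => nonZeroDivisors.ne_zero hc₀
    (IsFractionRing.injective V K (h.trans (map_zero _).symm))
  have h2 : phiK V Ω L K (algebraMap V K c₀)⁻¹ * phiK V Ω L K (algebraMap V K c₀) = 1 := by
    rw [← map_mul, inv_mul_cancel₀ hc0, map_one]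
  linear_combination (algebraMap (H V[X] Ω) L (cH V Ω γ) * algebraMap (H V[X] Ω) L (v : H V[X] Ω)) * h2

end Groth.Agent.SBC51
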