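import Groth.Agent.SBC51.ValStage
import Groth.Agent.Henz21.LocalProps
import Mathlib.FieldTheory.IsAlgClosed.Basic
import Mathlib.RingTheory.PrincipalIdealDomain

/-!
Strict henselizations of the affine line of a valuation ring with algebraically closed fraction
field: over the generic point they are principal ideal domains with roots of all units.
-/

set_option autoImplicit false
set_option backward.isDefEq.respectTransparency.types false
set_option synthInstance.maxHeartbeats 100000
set_option linter.style.haveILetI false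
universe u

open Polynomial IsLocalRing TensorProduct CategoryTheory
open Groth.Agent.Henz21 (Pt H)

namespace Groth.Agent.SBC51

variable (V : Type u) [CommRing V] [IsDomain V] [ValuationRing V] (Ω : Type u) [Field Ω] [Algebra V[X] Ω]

/-- The geometric point lies over the closed point of the valuation ring. -/
def OverClosed : Prop := ∀ a : V, algebraMap V[X] Ω (C a) = 0 ↔ a ∈ maximalIdeal V

/-- The constants inside the henselization. -/
noncomputable abbrev cH : V →+* H V[X] Ω := (algebraMap V[X] (H V[X] Ω)).comp C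

variable {V Ω} (hΩ : OverClosed V Ω)

noncomputable instance algebraStage (i : Pt V[X] Ω) : Algebra V i.S :=
  ((algebraMap V[X] i.S).comp C).toAlgebra

instance isScalarTower_stage (i : Pt V[X] Ω) : IsScalarTower V V[X] i.S :=
  IsScalarTower.of_algebraMap_eq fun _ => rfl

/-- The point of a stage. -/
noncomputable abbrev qS (i : Pt V[X] Ω) : Ideal i.S := RingHom.ker i.pt

instance isPrime_qS (i : Pt V[X] Ω) : (qS i).IsPrime := RingHom.ker_isPrime _

include hΩ in
theorem comap_qS (i : Pt V[X] Ω) : (qS i).comap (algebraMap V i.S) = maximalIdeal V := by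
  ext a
  rw [Ideal.mem_comap, RingHom.mem_ker]
  show i.pt (algebraMap V[X] i.S (C a)) = 0 ↔ _
  rw [AlgHom.commutes, hΩ a]

/-- The map from the local ring of a stage. -/
noncomputable def toH (i : Pt V[X] Ω) : Localization.AtPrime (qS i) →+* H V[X] Ω :=
  IsLocalization.lift (M := (qS i).primeCompl) (g := (H.incl i).toRingHom) fun s =>
    H.isUnit_of_isUnit_proj (isUnit_iff_ne_zero.2 fun h => s.2 (by
      exact RingHom.mem_ker.2 ((H.proj_incl i s).symm.trans h)))

theorem toH_algebraMap (i : Pt V[X] Ω) (s : i.S) : toH i (algebraMap i.S _ s) = H.incl i s :=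
  IsLocalization.lift_eq _ _

theorem toH_cst (i : Pt V[X] Ω) (a : V) : toH i (algebraMap V _ a) = cH V Ω a := by
  rw [IsScalarTower.algebraMap_apply V i.S (Localization.AtPrime (qS i)), toH_algebraMap]
  exact (H.incl i).commutes (C a)

theorem toH_poly (i : Pt V[X] Ω) (f : V[X]) : toH i (algebraMap V[X] _ f) = algebraMap V[X] _ f := by
  rw [IsScalarTower.algebraMap_apply V[X] i.S (Localization.AtPrime (qS i)), toH_algebraMap]
  exact (H.incl i).commutes f

/-- A map of stages, on local rings. -/
noncomputable def stageMap {i j : Pt V[X] Ω} (f : i ⟶ j) :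
    Localization.AtPrime (qS i) →+* Localization.AtPrime (qS j) :=
  Localization.localRingHom (qS i) (qS j) f.φ.toRingHom (Ideal.ext fun s => by
    show i.pt s = 0 ↔ j.pt (f.φ s) = 0
    rw [f.pt_apply])

theorem stageMap_algebraMap {i j : Pt V[X] Ω} (f : i ⟶ j) (s : i.S) :
    stageMap f (algebraMap i.S _ s) = algebraMap j.S _ (f.φ s) :=
  Localization.localRingHom_to_map _ _ _ _ s

include hΩ in
theorem stageMap_injective {i j : Pt V[X] Ω} (f : i ⟶ j) : Function.Injective (stageMap f) := by
  rw [injective_iff_map_eq_zero]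
  intro x hx
  by_contra hx0
  obtain ⟨p, hp, c, hc⟩ := exists_dvd_polynomial (qS i) (comap_qS hΩ i) x hx0
  refine hp (injective_algebraMap_local (qS j) (comap_qS hΩ j) ?_)
  have h1 : stageMap f (algebraMap V[X] _ p) = algebraMap V[X] _ p := by
    rw [IsScalarTower.algebraMap_apply V[X] i.S (Localization.AtPrime (qS i)), stageMap_algebraMap, AlgHom.commutes,
      ← IsScalarTower.algebraMap_apply]
  rw [← h1, hc, map_mul, hx, zero_mul, map_zero]

include hΩ in
theorem toH_injective (i : Pt V[X] Ω) : Function.Injective (toH i) := by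
  rw [injective_iff_map_eq_zero]
  intro x hx
  obtain ⟨s, σ, rfl⟩ := IsLocalization.exists_mk'_eq (qS i).primeCompl x
  have h1 : H.incl i s = H.incl i 0 := by
    have h := congrArg (toH i) (IsLocalization.mk'_spec (Localization.AtPrime (qS i)) s σ)
    rw [map_mul, hx, zero_mul, toH_algebraMap] at h
    rw [← h, map_zero]
  obtain ⟨k, f, g, hk⟩ := (H.incl_eq_iff _ _).1 h1
  rw [map_zero] at hk
  refine stageMap_injective hΩ f ?_
  rw [map_zero]
  apply (IsLocalization.map_units (Localization.AtPrime (qS i)) σ |>.map (stageMap f)).mul_left_injective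
  show stageMap f _ * stageMap f _ = 0 * stageMap f _
  rw [← map_mul, IsLocalization.mk'_spec, stageMap_algebraMap, hk, map_zero, zero_mul]

theorem exists_stage (x : H V[X] Ω) : ∃ (i : Pt V[X] Ω) (y : Localization.AtPrime (qS i)), toH i y = x := by
  obtain ⟨i, s, rfl⟩ := H.exists_rep x
  exact ⟨i, algebraMap _ _ s, toH_algebraMap i s⟩

theorem exists_stage_two (x x' : H V[X] Ω) :
    ∃ (i : Pt V[X] Ω) (y y' : Localization.AtPrime (qS i)), toH i y = x ∧ toH i y' = x' := by
  obtain ⟨i, s, t, rfl, rfl⟩ := H.exists_rep_two x x'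
  exact ⟨i, algebraMap _ _ s, algebraMap _ _ t, toH_algebraMap i s, toH_algebraMap i t⟩

include hΩ in
theorem isDomain_hens : IsDomain (H V[X] Ω) :=
  @NoZeroDivisors.to_isDomain _ _ inferInstance ⟨fun {x y} hxy => by
    obtain ⟨i, a, b, rfl, rfl⟩ := exists_stage_two x y
    have := isDomain_local (qS i) (comap_qS hΩ i)
    rw [← map_mul, map_eq_zero_iff _ (toH_injective hΩ i), mul_eq_zero] at hxy
    exact hxy.imp (fun h => by rw [h, map_zero]) (fun h => by rw [h, map_zero])⟩

include hΩ in
theorem injective_poly : Function.Injective (algebraMap V[X] (H V[X] Ω)) := by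
  rw [injective_iff_map_eq_zero]
  intro f hf
  let i := H.base V[X] Ω
  refine injective_algebraMap_local (qS i) (comap_qS hΩ i) (toH_injective hΩ i ?_)
  rw [toH_poly, hf, map_zero, map_zero]

include hΩ in
theorem cH_injective : Function.Injective (cH V Ω) := (injective_poly hΩ).comp C_injective

include hΩ in
theorem exists_dvd_poly (x : H V[X] Ω) (hx : x ≠ 0) : ∃ f : V[X], f ≠ 0 ∧ x ∣ algebraMap V[X] _ f := by
  obtain ⟨i, a, rfl⟩ := exists_stage x
  obtain ⟨f, hf, h⟩ := exists_dvd_polynomial (qS i) (comap_qS hΩ i) a fun h => hx (by rw [h, map_zero])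
  exact ⟨f, hf, toH_poly i f ▸ map_dvd (toH i) h⟩

/-- Elements vanishing on the special fibre. -/
noncomputable abbrev special : Ideal (H V[X] Ω) := (maximalIdeal V).map (cH V Ω)

include hΩ in
theorem isUnit_cst {a : V} (ha : a ∉ maximalIdeal V) : IsUnit (cH V Ω a) :=
  H.isUnit_of_isUnit_proj (isUnit_iff_ne_zero.2 fun h => ha ((hΩ a).1 (by rwa [← AlgHom.commutes (H.proj V[X] Ω)])))

theorem exists_special_eq {x : H V[X] Ω} (hx : x ∈ special) : ∃ a ∈ maximalIdeal V, ∃ y, x = cH V Ω a * y := by
  refine Submodule.span_induction (p := fun x _ => ∃ a ∈ maximalIdeal V, ∃ y, x = cH V Ω a * y) ?_ ?_ ?_ ?_ hx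
  · rintro _ ⟨a, ha, rfl⟩
    exact ⟨a, ha, 1, (mul_one _).symm⟩
  · exact ⟨0, zero_mem _, 0, by simp⟩
  · rintro _ _ - - ⟨a, ha, y, rfl⟩ ⟨b, hb, z, rfl⟩
    rcases ValuationRing.dvd_total a b with ⟨c, rfl⟩ | ⟨c, rfl⟩
    · exact ⟨a, ha, y + cH V Ω c * z, by rw [map_mul, mul_add, mul_assoc]⟩
    · exact ⟨b, hb, cH V Ω c * y + z, by rw [map_mul, mul_add, mul_assoc]⟩
  · rintro r _ - ⟨a, ha, y, rfl⟩
    exact ⟨a, ha, r * y, by rw [smul_eq_mul, mul_left_comm]⟩

theorem stageMap_mem_fibre {i j : Pt V[X] Ω} (f : i ⟶ j) {x : Localization.AtPrime (qS i)}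
    (hx : x ∈ fibreIdeal (V := V) (qS i)) : stageMap f x ∈ fibreIdeal (V := V) (qS j) := by
  have hc : ∀ a : V, stageMap f (algebraMap V _ a) = algebraMap V _ a := fun a => by
    rw [IsScalarTower.algebraMap_apply V i.S (Localization.AtPrime (qS i)), stageMap_algebraMap,
      IsScalarTower.algebraMap_apply V j.S (Localization.AtPrime (qS j))]
    exact congrArg _ (f.φ.commutes (C a))
  have h := Ideal.mem_map_of_mem (stageMap f) hx
  rw [Ideal.map_map] at h
  convert h
  exact RingHom.ext fun a => (hc a).symm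

include hΩ in
/-- Elements outside the special fibre stay outside at later stages. -/
theorem not_mem_stageMap {i j : Pt V[X] Ω} (f : i ⟶ j) (x : Localization.AtPrime (qS i))
    (hx : x ∉ fibreIdeal (V := V) (qS i)) : stageMap f x ∉ fibreIdeal (V := V) (qS j) := by
  intro hfx
  let R := Localization.AtPrime (qS i)
  have hi := isPrime_fibreIdeal (qS i) (comap_qS hΩ i)
  have := isDomain_local (qS i) (comap_qS hΩ i)
  have hη : ∀ (k : Pt V[X] Ω) (g : V[X]), algebraMap V[X] (Localization.AtPrime (qS k)) g ∈ fibreIdeal (V := V) (qS k) →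
      g ∈ (maximalIdeal V).map C := fun k g hg => (comap_fibreIdeal (qS k) (comap_qS hΩ k)).le (by
    rw [Ideal.mem_comap, Ideal.mem_comap, ← IsScalarTower.algebraMap_apply]
    exact hg)
  obtain ⟨p, hp, y, hy⟩ := exists_dvd_polynomial (qS i) (comap_qS hΩ i) x fun h => hx (h ▸ zero_mem _)
  obtain ⟨γ, p₀, hγ, rfl, hp₀⟩ := exists_content p hp
  obtain ⟨δ, y₁, hδ, hy₁, rfl⟩ := exists_content_local (qS i) (comap_qS hΩ i) y fun h => hp (by
    refine injective_algebraMap_local (qS i) (comap_qS hΩ i) ?_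
    rw [hy, h, mul_zero, map_zero])
  rw [map_mul, ← Polynomial.algebraMap_eq, ← IsScalarTower.algebraMap_apply, mul_left_comm] at hy
  have hP : stageMap f (algebraMap V[X] R p₀) ∈ fibreIdeal (V := V) (qS j) → False := fun h => hp₀ (hη j p₀ (by
    rwa [IsScalarTower.algebraMap_apply V[X] i.S R, stageMap_algebraMap, AlgHom.commutes,
      ← IsScalarTower.algebraMap_apply] at h))
  rcases ValuationRing.dvd_total δ γ with ⟨e, rfl⟩ | ⟨e, rfl⟩
  · rw [map_mul, mul_assoc] at hy
    have h1 : algebraMap V R e * algebraMap V[X] R p₀ = x * y₁ :=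
      sub_eq_zero.1 (algebraMap_ne_zero (qS i) (comap_qS hΩ i) hδ (by rw [mul_sub, hy, sub_self]))
    by_cases he : e ∈ maximalIdeal V
    · exact (hi.mem_or_mem (h1 ▸ Ideal.mul_mem_right _ _ (Ideal.mem_map_of_mem _ he) : x * y₁ ∈ fibreIdeal (V := V) (qS i))).elim hx hy₁
    · refine hP ?_
      have h2 := (IsLocalRing.notMem_maximalIdeal.1 he).map (algebraMap V R) |>.map (stageMap f)
      rw [← Ideal.unit_mul_mem_iff_mem _ h2, ← map_mul, h1, map_mul]
      exact Ideal.mul_mem_right _ _ hfx
  · rw [map_mul, mul_assoc] at hy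
    have h1 : algebraMap V[X] R p₀ = algebraMap V R e * (x * y₁) :=
      sub_eq_zero.1 (algebraMap_ne_zero (qS i) (comap_qS hΩ i) hγ (by rw [mul_sub, hy, sub_self]))
    refine hP ?_
    rw [h1, map_mul, map_mul]
    exact Ideal.mul_mem_left _ _ (Ideal.mul_mem_right _ _ hfx)

include hΩ in
theorem exists_content_hens (x : H V[X] Ω) (hx : x ≠ 0) :
    ∃ (γ : V) (x₁ : H V[X] Ω), γ ≠ 0 ∧ x₁ ∉ special ∧ x = cH V Ω γ * x₁ := by
  obtain ⟨i, a, rfl⟩ := exists_stage x
  obtain ⟨γ, a₁, hγ, ha₁, rfl⟩ := exists_content_local (qS i) (comap_qS hΩ i) a fun h => hx (by rw [h, map_zero])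
  refine ⟨γ, toH i a₁, hγ, fun hs => ?_, by rw [map_mul, toH_cst]⟩
  obtain ⟨c, hc, y, hy⟩ := exists_special_eq hs
  obtain ⟨s, σ, rfl⟩ := IsLocalization.exists_mk'_eq (qS i).primeCompl a₁
  obtain ⟨j, t, rfl⟩ := H.exists_rep y
  have h1 : H.incl i s = H.incl j (algebraMap V j.S c * t) * H.incl i σ := by
    rw [map_mul, ← toH_algebraMap i (σ : i.S), ← toH_algebraMap i s,
      ← IsLocalization.mk'_spec (Localization.AtPrime (qS i)) s σ, map_mul, hy]
    congr 2
    exact ((H.incl j).commutes (C c)).symm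
  let k := IsFiltered.max i j
  let u := IsFiltered.leftToMax i j
  let v := IsFiltered.rightToMax i j
  have h2 : H.incl k (u.φ s) = H.incl k (algebraMap V k.S c * (v.φ t * u.φ (σ : i.S))) := by
    rw [map_mul, map_mul, H.incl_φ, H.incl_φ, H.incl_φ, h1, map_mul, mul_assoc]
    congr 1
    exact ((H.incl j).commutes (C c)).trans ((H.incl k).commutes (C c)).symm
  obtain ⟨l, w, w', hw⟩ := (H.incl_eq_iff _ _).1 h2
  have hp := isPrime_fibreIdeal (qS l) (comap_qS hΩ l)
  -- the element is in the special fibre at a later stage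
  let m := u ≫ w
  have h3 : stageMap m (algebraMap i.S _ s) ∈ fibreIdeal (V := V) (qS l) := by
    rw [stageMap_algebraMap]
    show algebraMap l.S _ (w.φ (u.φ s)) ∈ _
    rw [hw, map_mul, map_mul]
    refine Ideal.mul_mem_right _ _ ?_
    rw [show w'.φ (algebraMap V k.S c) = algebraMap V l.S c from w'.φ.commutes (C c), ← IsScalarTower.algebraMap_apply]
    exact Ideal.mem_map_of_mem _ hc
  have h4 : stageMap m (IsLocalization.mk' _ s σ) ∈ fibreIdeal (V := V) (qS l) := by
    rw [← Ideal.mul_unit_mem_iff_mem _ ((IsLocalization.map_units (Localization.AtPrime (qS i)) σ).map (stageMap m)),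
      ← map_mul, IsLocalization.mk'_spec]
    exact h3
  exact not_mem_stageMap hΩ m (IsLocalization.mk' _ s σ) ha₁ h4

include hΩ in
theorem mul_notMem_special {x y : H V[X] Ω} (hx : x ∉ special) (hy : y ∉ special) : x * y ∉ special := by
  intro hxy
  obtain ⟨c, hc, z, hz⟩ := exists_special_eq hxy
  obtain ⟨i, a, b, rfl, rfl⟩ := exists_stage_two x y
  obtain ⟨j, t, rfl⟩ := H.exists_rep z
  have hmem : ∀ (k : Pt V[X] Ω) (w : Localization.AtPrime (qS k)), toH k w ∉ special →
      w ∉ fibreIdeal (V := V) (qS k) := fun k w hw h => hw (by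
    have h' := Ideal.mem_map_of_mem (toH k) h
    rw [Ideal.map_map] at h'
    convert h'
    exact RingHom.ext fun a => (toH_cst k a).symm)
  let k := IsFiltered.max i j
  let u := IsFiltered.leftToMax i j
  let v := IsFiltered.rightToMax i j
  have hcomm : ∀ w, toH k (stageMap u w) = toH i w := fun w => by
    obtain ⟨s, σ, rfl⟩ := IsLocalization.exists_mk'_eq (qS i).primeCompl w
    apply (IsLocalization.map_units (Localization.AtPrime (qS i)) σ |>.map (toH i)).mul_left_injective
    show toH k (stageMap u _) * toH i _ = toH i _ * toH i _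
    rw [← map_mul (toH i), IsLocalization.mk'_spec, toH_algebraMap i s, ← H.incl_φ u s, ← toH_algebraMap k,
      toH_algebraMap i (σ : i.S), ← H.incl_φ u (σ : i.S), ← toH_algebraMap k, ← map_mul, ← stageMap_algebraMap u,
      ← stageMap_algebraMap u, ← map_mul, IsLocalization.mk'_spec]
  have hp := isPrime_fibreIdeal (qS k) (comap_qS hΩ k)
  refine (hp.mem_or_mem (x := stageMap u a) (y := stageMap u b) ?_).elim (hmem k _ (by rwa [hcomm]))
    (hmem k _ (by rwa [hcomm]))
  have h1 : toH k (stageMap u a * stageMap u b) =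
      toH k (algebraMap V _ c * algebraMap k.S _ (v.φ t)) := by
    rw [map_mul, hcomm, hcomm, hz, map_mul, toH_cst, toH_algebraMap, H.incl_φ]
  rw [toH_injective hΩ k h1]
  exact Ideal.mul_mem_right _ _ (Ideal.mem_map_of_mem _ hc)

include hΩ in
/-- Divisors of constants are constants times units. -/
theorem eq_cst_mul_unit_of_mul_eq {g g' : H V[X] Ω} {c : V} (hc : c ≠ 0) (h : g * g' = cH V Ω c) :
    ∃ (γ : V) (u : (H V[X] Ω)ˣ), γ ≠ 0 ∧ g = cH V Ω γ * u := by
  have := isDomain_hens hΩ
  have hc' : cH V Ω c ≠ 0 := fun h0 => hc (cH_injective hΩ (h0.trans (map_zero _).symm))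
  obtain ⟨a, x, ha, hx, rfl⟩ := exists_content_hens hΩ g (left_ne_zero_of_mul (h ▸ hc'))
  obtain ⟨b, y, hb, hy, rfl⟩ := exists_content_hens hΩ g' (right_ne_zero_of_mul (h ▸ hc'))
  have hab : cH V Ω (a * b) * (x * y) = cH V Ω c := by rw [← h, map_mul]; ring
  have hab0 : a * b ≠ 0 := mul_ne_zero ha hb
  rcases ValuationRing.dvd_total c (a * b) with ⟨e, he⟩ | ⟨e, he⟩
  · rw [he, map_mul, mul_assoc] at hab
    have h1 : cH V Ω e * (x * y) = 1 := mul_left_cancel₀ hc' (hab.trans (mul_one _).symm)
    have hxu : IsUnit x := IsUnit.of_mul_eq_one (cH V Ω e * y) (by rw [← h1]; ring)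
    exact ⟨a, hxu.unit, ha, rfl⟩
  · rw [he, map_mul (cH V Ω) (a * b) e] at hab
    have h1 : x * y = cH V Ω e := mul_left_cancel₀ (fun h0 => hab0 (cH_injective hΩ (h0.trans (map_zero _).symm))) hab
    have he' : e ∉ maximalIdeal V := fun he' => mul_notMem_special hΩ hx hy (h1 ▸ Ideal.mem_map_of_mem _ he')
    have hxu : IsUnit x := isUnit_of_mul_isUnit_left (h1 ▸ isUnit_cst hΩ he')
    exact ⟨a, hxu.unit, ha, rfl⟩

section Closed

variable [HenselianLocalRing V] [IsAlgClosed (ResidueField V)]

include hΩ in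
/-- Points of a stage over a rational point of the special line are rational. -/
theorem exists_section (i : Pt V[X] Ω) {a : V} (ha : algebraMap V[X] Ω X = algebraMap V[X] Ω (C a)) :
    ∃ g : i.S →+* V, (∀ f : V[X], g (algebraMap V[X] i.S f) = f.eval a) ∧ ∀ s, i.pt s = 0 ↔ g s ∈ maximalIdeal V := by
  let ψ : ResidueField V →+* Ω := Ideal.Quotient.lift _ ((algebraMap V[X] Ω).comp C) fun b hb => (hΩ b).2 hb
  letI : Algebra (ResidueField V) Ω := ψ.toAlgebra
  letI : Algebra V[X] (ResidueField V) := ((residue V).comp (evalRingHom a)).toAlgebra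
  have hpoly : ∀ f : V[X], algebraMap V[X] Ω f = ψ (residue V (f.eval a)) := fun f => by
    have : algebraMap V[X] Ω = (ψ.comp (residue V)).comp (evalRingHom a) := by
      refine Polynomial.ringHom_ext (fun b => ?_) ?_
      · simp only [RingHom.comp_apply, coe_evalRingHom, eval_C]
        rfl
      · simp only [RingHom.comp_apply, coe_evalRingHom, eval_X, ha]
        rfl
    exact RingHom.congr_fun this f
  haveI : IsScalarTower V[X] (ResidueField V) Ω := IsScalarTower.of_algebraMap_eq hpoly
  let Φ : (ResidueField V) ⊗[V[X]] i.S →ₐ[ResidueField V] Ω :=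
    Algebra.TensorProduct.lift (Algebra.ofId _ Ω) i.pt fun _ _ => Commute.all _ _
  haveI : Module.Free (ResidueField V) ((ResidueField V) ⊗[V[X]] i.S) := Module.Free.of_divisionRing _ _
  haveI : Module.Finite (ResidueField V) ((ResidueField V) ⊗[V[X]] i.S) :=
    Algebra.FormallyUnramified.finite_of_free (ResidueField V) _
  have hmem : ∀ s : i.S, ∃ r : ResidueField V, ψ r = i.pt s := fun s => by
    have h1 : IsIntegral (ResidueField V) (i.pt s) := by
      have := (IsIntegral.of_finite (ResidueField V) ((1 : ResidueField V) ⊗ₜ[V[X]] s)).map Φ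
      rwa [Algebra.TensorProduct.lift_tmul, map_one, one_mul] at this
    exact minpoly.mem_range_of_degree_eq_one (ResidueField V) (i.pt s)
      (IsAlgClosed.degree_eq_one_of_irreducible _ (minpoly.irreducible h1))
  choose r hr using hmem
  let σ : i.S →ₐ[V[X]] ResidueField V :=
    { toFun := r
      map_one' := ψ.injective (by rw [hr, map_one, map_one])
      map_mul' := fun x y => ψ.injective (by rw [map_mul, hr, hr, hr, map_mul])
      map_zero' := ψ.injective (by rw [hr, map_zero, map_zero])
      map_add' := fun x y => ψ.injective (by rw [map_add, hr, hr, hr, map_add])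
      commutes' := fun f => ψ.injective (by
        show ψ (r _) = _
        rw [hr, AlgHom.commutes, hpoly]
        rfl) }
  letI : Algebra V[X] V := (evalRingHom a).toAlgebra
  haveI : IsScalarTower V[X] V (ResidueField V) := IsScalarTower.of_algebraMap_eq fun _ => rfl
  obtain ⟨g, hg, -⟩ := Henz21.existsUnique_lift (T := V) σ
  refine ⟨g.toRingHom, fun f => g.commutes f, fun s => ?_⟩
  have h1 : residue V (g s) = r s := DFunLike.congr_fun hg s
  rw [← hr, ← h1, map_eq_zero_iff ψ ψ.injective, residue_eq_zero_iff]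
  rfl

include hΩ in
/-- At a rational point of the special line every element is a constant plus a multiple of the coordinate. -/
theorem exists_eq_cst_add {a : V} (ha : algebraMap V[X] Ω X = algebraMap V[X] Ω (C a)) (x : H V[X] Ω) :
    ∃ (v : V) (w : H V[X] Ω), x = cH V Ω v + algebraMap V[X] _ (X - C a) * w := by
  obtain ⟨i, s₀, rfl⟩ := H.exists_rep x
  obtain ⟨g, hg, hgm⟩ := exists_section hΩ i ha
  let J : Ideal i.S := Ideal.span {algebraMap V[X] i.S (X - C a)}
  let mk := Ideal.Quotient.mk J
  have hpoly : ∀ f : V[X], mk (algebraMap V[X] i.S f) = mk (algebraMap V[X] i.S (C (f.eval a))) := fun f => by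
    rw [Ideal.Quotient.eq, Ideal.mem_span_singleton, ← map_sub]
    exact map_dvd _ X_sub_C_dvd_sub_C_eval
  let T := i.S ⧸ J
  let ρ₁ : i.S →ₐ[V[X]] T :=
    { (mk.comp ((algebraMap V[X] i.S).comp C)).comp g with
      commutes' := fun f => by
        show mk (algebraMap V[X] i.S (C (g (algebraMap V[X] i.S f)))) = mk (algebraMap V[X] i.S f)
        rw [hg, ← hpoly] }
  let ρ₂ : i.S →ₐ[V[X]] T := Ideal.Quotient.mkₐ V[X] J
  let el := Algebra.FormallyUnramified.elem V[X] i.S
  let e := Algebra.TensorProduct.productMap ρ₁ ρ₂ el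
  obtain ⟨τ, hτ⟩ := Ideal.Quotient.mk_surjective e
  let g' : T →+* V := Ideal.Quotient.lift J g fun z hz => by
    obtain ⟨w, rfl⟩ := Ideal.mem_span_singleton'.1 hz
    rw [map_mul, hg, eval_sub, eval_X, eval_C, sub_self, mul_zero]
  have hg1 : g' e = g (Algebra.TensorProduct.lmul' V[X] el) := by
    have key : ∀ z : i.S ⊗[V[X]] i.S, g' (Algebra.TensorProduct.productMap ρ₁ ρ₂ z) =
        g (Algebra.TensorProduct.lmul' V[X] z) := fun z => by
      induction z using TensorProduct.induction_on with
      | zero => simp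
      | add x y hx hy => rw [map_add, map_add, map_add, map_add, hx, hy]
      | tmul x y =>
        rw [Algebra.TensorProduct.productMap_apply_tmul, map_mul, Algebra.TensorProduct.lmul'_apply_tmul, map_mul]
        congr 1
        show g (algebraMap V[X] i.S (C (g x))) = g x
        rw [hg, eval_C]
    exact key el
  rw [Algebra.FormallyUnramified.lmul_elem, map_one, ← hτ, Ideal.Quotient.lift_mk] at hg1
  have hτu : IsUnit (H.incl i τ) := H.isUnit_of_isUnit_proj (isUnit_iff_ne_zero.2 fun h0 => by
    rw [H.proj_incl] at h0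
    have h1 := (hgm τ).1 h0
    rw [hg1] at h1
    exact (maximalIdeal.isMaximal V).ne_top ((Ideal.eq_top_iff_one _).2 h1))
  have hkey : (mk s₀ - mk (algebraMap V[X] i.S (C (g s₀)))) * e = 0 := by
    have h := congrArg (Algebra.TensorProduct.productMap ρ₁ ρ₂)
      (Algebra.FormallyUnramified.one_tmul_sub_tmul_one_mul_elem (R := V[X]) s₀)
    simp only [map_mul, map_sub, map_zero, Algebra.TensorProduct.productMap_apply_tmul, map_one,
      one_mul, mul_one] at h
    exact h
  rw [← hτ, ← map_sub, ← map_mul, Ideal.Quotient.eq_zero_iff_mem, Ideal.mem_span_singleton] at hkey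
  obtain ⟨w, hw⟩ := hkey
  refine ⟨g s₀, H.incl i w * (hτu.unit⁻¹ : (H V[X] Ω)ˣ), ?_⟩
  have h3 := congrArg (H.incl i) hw
  rw [map_mul, map_sub, map_mul, AlgHom.commutes, AlgHom.commutes] at h3
  rw [← mul_assoc, ← h3, mul_assoc, IsUnit.mul_val_inv, mul_one]
  exact (add_sub_cancel _ _).symm

end Closed

end Groth.Agent.SBC51
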