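import Groth.Agent.EtAlg23.ValuationLocal
import Groth.Agent.FlatCrit65.Assassin.Socle
import Groth.Agent.Unr55.EtAscent
import Mathlib.RingTheory.Etale.Basic
import Mathlib.RingTheory.Polynomial.Basic
import Mathlib.Algebra.Polynomial.FieldDivision

/-!
Local rings of etale algebras over the affine line of a valuation ring: every element is a constant
times an element which does not vanish identically on the special fibre.
-/

set_option autoImplicit false
set_option synthInstance.maxHeartbeats 100000
set_option backward.isDefEq.respectTransparency.types false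
set_option linter.style.haveILetI false
universe u

open Polynomial TensorProduct IsLocalRing

namespace Groth.Agent.SBC51

variable {V : Type u} [CommRing V] [IsDomain V] [ValuationRing V]

/-- A nonzero polynomial is a constant times a polynomial with a unit coefficient. -/
theorem exists_content (f : V[X]) (hf : f ≠ 0) :
    ∃ (γ : V) (f₀ : V[X]), γ ≠ 0 ∧ f = C γ * f₀ ∧ f₀ ∉ (maximalIdeal V).map C := by
  obtain ⟨a, ha, hdvd⟩ := EtAlg23.exists_dvd_all f.support f.coeff (support_nonempty.2 hf)
  have hγ : f.coeff a ≠ 0 := mem_support_iff.1 ha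
  obtain ⟨f₀, h₀⟩ := (C_dvd_iff_dvd_coeff (f.coeff a) f).2 fun i => by
    by_cases hi : i ∈ f.support
    · exact hdvd i hi
    · rw [notMem_support_iff.1 hi]
      exact dvd_zero _
  refine ⟨_, f₀, hγ, h₀, fun hm => ?_⟩
  have h1 : f.coeff a * f₀.coeff a = f.coeff a * 1 := by
    rw [mul_one, ← coeff_C_mul, ← h₀]
  have h2 := Ideal.mem_map_C_iff.1 hm a
  rw [mul_left_cancel₀ hγ h1] at h2
  exact (maximalIdeal V).ne_top_iff_one.1 (maximalIdeal.isMaximal V).ne_top h2

instance isPrime_eta : ((maximalIdeal V).map (C : V →+* V[X])).IsPrime :=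
  Ideal.isPrime_map_C_of_isPrime

theorem valuationRing_gauss :
    ValuationRing (Localization.AtPrime ((maximalIdeal V).map (C : V →+* V[X]))) := by
  refine EtAlg23.valuationRing_of_eq_unit_mul (A := V) fun b hb => ?_
  obtain ⟨f, s, rfl⟩ := IsLocalization.exists_mk'_eq ((maximalIdeal V).map (C : V →+* V[X])).primeCompl b
  have hf : f ≠ 0 := by
    rintro rfl
    exact hb (IsLocalization.mk'_zero _)
  obtain ⟨γ, f₀, -, rfl, hf₀⟩ := exists_content f hf
  let L := Localization.AtPrime ((maximalIdeal V).map (C : V →+* V[X]))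
  have hu := IsLocalization.map_units L (⟨f₀, hf₀⟩ : ((maximalIdeal V).map (C : V →+* V[X])).primeCompl)
  refine ⟨γ, hu.unit * (IsLocalization.map_units L s).unit⁻¹, ?_⟩
  apply (IsLocalization.map_units L s).mul_left_injective
  show IsLocalization.mk' L (C γ * f₀) s * algebraMap V[X] L s = _
  rw [IsLocalization.mk'_spec, map_mul, IsScalarTower.algebraMap_apply V V[X] L γ, Polynomial.algebraMap_eq]
  show _ = (hu.unit : L) * ((IsLocalization.map_units L s).unit⁻¹ : Lˣ) * algebraMap V[X] L (C γ) *
    algebraMap V[X] L (s : V[X])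
  rw [mul_assoc, mul_assoc, mul_comm (algebraMap V[X] L (C γ)) (algebraMap V[X] L (s : V[X])), ← mul_assoc
    (((IsLocalization.map_units L s).unit⁻¹ : Lˣ) : L), IsUnit.val_inv_mul, one_mul, IsUnit.unit_spec, mul_comm]

variable {S : Type u} [CommRing S] [Algebra V[X] S] [Algebra.Etale V[X] S] [Algebra V S]
  [IsScalarTower V V[X] S] (Q : Ideal S) [Q.IsPrime]

/-- The special fibre of the local ring of an etale algebra over the affine line. -/
noncomputable abbrev fibreIdeal : Ideal (Localization.AtPrime Q) :=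
  (maximalIdeal V).map (algebraMap V (Localization.AtPrime Q))

theorem flat_local : Module.Flat V (Localization.AtPrime Q) := by
  have : Module.Flat S (Localization.AtPrime Q) := IsLocalization.flat _ Q.primeCompl
  have : Module.Flat V S := Module.Flat.trans V V[X] S
  exact Module.Flat.trans V S _

theorem isLocalHom_local (hQ : Q.comap (algebraMap V S) = maximalIdeal V) :
    IsLocalHom (algebraMap V (Localization.AtPrime Q)) := ⟨fun a ha => by
  by_contra h
  have h1 : algebraMap V S a ∈ Q := by rw [← Ideal.mem_comap, hQ]; exact h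
  rw [IsScalarTower.algebraMap_apply V S (Localization.AtPrime Q)] at ha
  exact (IsLocalization.AtPrime.isUnit_to_map_iff (Localization.AtPrime Q) Q _).1 ha h1⟩

theorem algebraMap_ne_zero (hQ : Q.comap (algebraMap V S) = maximalIdeal V) {γ : V} (hγ : γ ≠ 0)
    {x : Localization.AtPrime Q} (h : algebraMap V _ γ * x = 0) : x = 0 := by
  have := flat_local (V := V) Q
  have h1 : x ∈ Submodule.torsion V (Localization.AtPrime Q) :=
    ⟨⟨γ, mem_nonZeroDivisors_of_ne_zero hγ⟩, by
      show γ • x = 0
      rwa [Algebra.smul_def]⟩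
  rwa [Module.Flat.torsion_eq_bot, Submodule.mem_bot] at h1

theorem fibreIdeal_eq :
    fibreIdeal (V := V) Q = (((maximalIdeal V).map (algebraMap V S)).map (algebraMap S (Localization.AtPrime Q))) := by
  rw [Ideal.map_map, ← IsScalarTower.algebraMap_eq]

/-- If all local rings of a quotient are domains, the extended ideal is prime. -/
theorem isPrime_map_of_domain {S T : Type u} [CommRing S] [CommRing T] (π : S →+* T) (hπ : Function.Surjective π)
    (J : Ideal S) (hker : ∀ s : S, π s = 0 ↔ s ∈ J) (Q : Ideal S) [Q.IsPrime] (hJQ : J ≤ Q)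
    (hdom : ∀ (Q' : Ideal T) [Q'.IsPrime], IsDomain (Localization.AtPrime Q')) :
    (J.map (algebraMap S (Localization.AtPrime Q))).IsPrime := by
  let Q' : Ideal T := Q.map π
  have hmem : ∀ s : S, π s ∈ Q' ↔ s ∈ Q := fun s => ⟨fun h => by
    obtain ⟨q, hq, e⟩ := (Ideal.mem_map_iff_of_surjective π hπ).1 h
    have : s = q - (q - s) := by ring
    rw [this]
    exact Q.sub_mem hq (hJQ ((hker _).1 (by rw [map_sub, e, sub_self]))),
    Ideal.mem_map_of_mem π⟩
  have : Q'.IsPrime := Ideal.map_isPrime_of_surjective hπ fun s hs => hJQ ((hker s).1 hs)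
  have := hdom Q'
  refine ⟨fun htop => ?_, fun {x y} hxy => ?_⟩
  · have h1 : J.map (algebraMap S (Localization.AtPrime Q)) ≤ maximalIdeal _ := by
      rw [Ideal.map_le_iff_le_comap]
      exact fun s hs => (IsLocalization.AtPrime.to_map_mem_maximal_iff _ Q s).2 (hJQ hs)
    exact (maximalIdeal.isMaximal (Localization.AtPrime Q)).ne_top (top_le_iff.1 (htop ▸ h1))
  obtain ⟨a, σ, rfl⟩ := IsLocalization.exists_mk'_eq Q.primeCompl x
  obtain ⟨b, τ, rfl⟩ := IsLocalization.exists_mk'_eq Q.primeCompl y
  rw [← IsLocalization.mk'_mul, IsLocalization.mk'_mem_map_algebraMap_iff] at hxy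
  obtain ⟨ρ, hρ, hρab⟩ := hxy
  have h1 : algebraMap T (Localization.AtPrime Q') (π a) * algebraMap T _ (π b) = 0 := by
    rw [← map_mul, IsLocalization.map_eq_zero_iff Q'.primeCompl]
    exact ⟨⟨π ρ, fun h => hρ ((hmem ρ).1 h)⟩, by rw [← map_mul, ← map_mul]; exact (hker _).2 hρab⟩
  rw [IsLocalization.mk'_mem_map_algebraMap_iff, IsLocalization.mk'_mem_map_algebraMap_iff]
  rcases mul_eq_zero.1 h1 with h | h <;>
  · obtain ⟨⟨ρ', hρ'⟩, he⟩ := (IsLocalization.map_eq_zero_iff Q'.primeCompl _ _).1 h
    obtain ⟨r, rfl⟩ := hπ ρ'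
    rw [← map_mul] at he
    first
      | exact Or.inl ⟨r, fun hr => hρ' ((hmem r).2 hr), (hker _).1 he⟩
      | exact Or.inr ⟨r, fun hr => hρ' ((hmem r).2 hr), (hker _).1 he⟩

/-- The local ring of the special fibre is a domain. -/
theorem isPrime_fibreIdeal (hQ : Q.comap (algebraMap V S) = maximalIdeal V) : (fibreIdeal (V := V) Q).IsPrime := by
  have _hne : fibreIdeal (V := V) Q ≠ ⊤ := by
    have := isLocalHom_local Q hQ
    refine ne_top_of_le_ne_top (maximalIdeal.isMaximal (Localization.AtPrime Q)).ne_top ?_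
    exact (Ideal.map_le_iff_le_comap).2 fun x hx hu => hx (isUnit_of_map_unit (algebraMap V (Localization.AtPrime Q)) x hu)
  let η := (maximalIdeal V).map (C : V →+* V[X])
  let A := V[X] ⧸ η
  have : IsIntegrallyClosed (V ⧸ maximalIdeal V)[X] := inferInstanceAs (IsIntegrallyClosed (ResidueField V)[X])
  have : IsIntegrallyClosed A :=
    IsIntegrallyClosed.of_equiv (Ideal.polynomialQuotientEquivQuotientPolynomial (maximalIdeal V) :
      (ResidueField V)[X] ≃+* A)
  let T := A ⊗[V[X]] S
  let π : S →+* T := (Algebra.TensorProduct.includeRight : S →ₐ[V[X]] T).toRingHom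
  have hπ : Function.Surjective π := fun z => by
    induction z using TensorProduct.induction_on with
    | zero => exact ⟨0, map_zero _⟩
    | tmul a b =>
      obtain ⟨f, rfl⟩ := Ideal.Quotient.mk_surjective a
      refine ⟨f • b, ?_⟩
      show (1 : A) ⊗ₜ[V[X]] (f • b) = _
      rw [← smul_tmul]
      congr 1
      show f • (1 : A) = Ideal.Quotient.mk η f
      show Ideal.Quotient.mk η (f • 1) = _
      rw [smul_eq_mul, mul_one]
    | add x y hx hy =>
      obtain ⟨x', rfl⟩ := hx
      obtain ⟨y', rfl⟩ := hy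
      exact ⟨x' + y', map_add _ _ _⟩
  let J := (maximalIdeal V).map (algebraMap V S)
  have hJη : J = η.map (algebraMap V[X] S) := by
    rw [Ideal.map_map, ← Polynomial.algebraMap_eq, ← IsScalarTower.algebraMap_eq]
  have hker : ∀ s : S, π s = 0 ↔ s ∈ J := fun s => by
    rw [hJη]
    have := (TensorProduct.quotTensorEquivQuotSMul S η).map_eq_zero_iff (x := (1 : A) ⊗ₜ[V[X]] s)
    refine this.symm.trans ?_
    rw [show (1 : A) = Ideal.Quotient.mk η 1 from rfl, TensorProduct.quotTensorEquivQuotSMul_mk_tmul, one_smul,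
      Submodule.Quotient.mk_eq_zero, Ideal.smul_top_eq_map, Submodule.restrictScalars_mem]
  rw [fibreIdeal_eq]
  exact isPrime_map_of_domain π hπ J hker Q (Ideal.map_le_iff_le_comap.2 hQ.ge)
    (fun Q' _ => (Unr55.isNormalDomain_localization_of_etale (A := A) (T := A ⊗[V[X]] S) Q').1)

/-- Elements outside the special fibre are regular modulo every constant. -/
theorem mem_span_of_mul_mem (hQ : Q.comap (algebraMap V S) = maximalIdeal V) {s x : Localization.AtPrime Q}
    (hs : s ∉ fibreIdeal (V := V) Q) (γ : V)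
    (h : s * x ∈ Ideal.span {algebraMap V (Localization.AtPrime Q) γ}) :
    x ∈ Ideal.span {algebraMap V (Localization.AtPrime Q) γ} := by
  have := flat_local (V := V) Q
  have hp := isPrime_fibreIdeal Q hQ
  let R := Localization.AtPrime Q
  have : Algebra.FinitePresentation V S := Algebra.FinitePresentation.trans V V[X] S
  let e : LocalizedModule Q.primeCompl S ≃ₗ[V] R :=
    (IsLocalizedModule.iso Q.primeCompl (Algebra.linearMap S R)).restrictScalars V
  have : Module.Flat V (LocalizedModule Q.primeCompl S) := Module.Flat.of_linearEquiv e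
  let u : R →ₗ[V] R := LinearMap.mulLeft V s
  have hu : Function.Injective (u.lTensor (ResidueField V)) := by
    rw [injective_iff_map_eq_zero]
    intro z hz
    obtain ⟨y, rfl⟩ := TensorProduct.mk_surjective V R (ResidueField V) Ideal.Quotient.mk_surjective z
    have key : ∀ w : R, (1 : ResidueField V) ⊗ₜ[V] w = 0 ↔ w ∈ fibreIdeal (V := V) Q := fun w => by
      refine ((TensorProduct.quotTensorEquivQuotSMul R (maximalIdeal V)).map_eq_zero_iff).symm.trans ?_
      show TensorProduct.quotTensorEquivQuotSMul R (maximalIdeal V) (Ideal.Quotient.mk _ 1 ⊗ₜ[V] w) = 0 ↔ _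
      rw [TensorProduct.quotTensorEquivQuotSMul_mk_tmul, one_smul, Submodule.Quotient.mk_eq_zero,
        Ideal.smul_top_eq_map, Submodule.restrictScalars_mem]
    change (1 : ResidueField V) ⊗ₜ[V] (s * y) = 0 at hz
    exact (key y).2 ((hp.mem_or_mem ((key _).1 hz)).resolve_left hs)
  let u' : LocalizedModule Q.primeCompl S →ₗ[V] R := u.comp e.toLinearMap
  have hu' : Function.Injective (u'.lTensor (ResidueField V)) := by
    rw [LinearMap.lTensor_comp, LinearMap.coe_comp]
    exact hu.comp (e.lTensor (ResidueField V)).injective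
  have hX' := FlatCrit65.rTensor_injective_of_closed_fibre (R := V) (S := S) (M := S) Q hQ u' hu'
    (V ⧸ Ideal.span {γ})
  have hX : Function.Injective (u.rTensor (V ⧸ Ideal.span {γ})) := fun a b hab => by
    obtain ⟨a', rfl⟩ := (e.rTensor (V ⧸ Ideal.span {γ})).surjective a
    obtain ⟨b', rfl⟩ := (e.rTensor (V ⧸ Ideal.span {γ})).surjective b
    refine congrArg _ (hX' ?_)
    rw [LinearMap.rTensor_comp, LinearMap.comp_apply, LinearMap.comp_apply]
    exact hab
  have key : ∀ w : R, w ⊗ₜ[V] (1 : V ⧸ Ideal.span {γ}) = 0 ↔ w ∈ Ideal.span {algebraMap V R γ} := fun w => by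
    refine ((TensorProduct.tensorQuotEquivQuotSMul R (Ideal.span {γ})).map_eq_zero_iff).symm.trans ?_
    show TensorProduct.tensorQuotEquivQuotSMul R (Ideal.span {γ}) (w ⊗ₜ[V] Ideal.Quotient.mk _ 1) = 0 ↔ _
    rw [TensorProduct.tensorQuotEquivQuotSMul_tmul_mk, one_smul, Submodule.Quotient.mk_eq_zero,
      Ideal.smul_top_eq_map, Submodule.restrictScalars_mem, Ideal.map_span, Set.image_singleton]
  refine (key x).1 (hX ?_)
  rw [map_zero]
  exact (key (s * x)).2 h

theorem injective_mul_left (hQ : Q.comap (algebraMap V S) = maximalIdeal V) {s x : Localization.AtPrime Q}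
    (hs : s ∉ fibreIdeal (V := V) Q) (h : s * x = 0) : x = 0 := by
  have h1 := mem_span_of_mul_mem Q hQ hs 0 (by rw [h]; exact zero_mem _)
  rwa [map_zero, Ideal.span_singleton_eq_bot.2 rfl, Ideal.mem_bot] at h1

/-- Pulled back to the affine line, the special fibre is the generic point of the special line. -/
theorem comap_fibreIdeal (hQ : Q.comap (algebraMap V S) = maximalIdeal V) :
    ((fibreIdeal (V := V) Q).comap (algebraMap S (Localization.AtPrime Q))).comap (algebraMap V[X] S) =
      (maximalIdeal V).map C := by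
  refine le_antisymm (fun f hf => ?_) ?_
  · have hp := isPrime_fibreIdeal Q hQ
    by_contra hf'
    -- the special fibre is flat over the special line
    let R := Localization.AtPrime Q
    let η := (maximalIdeal V).map (C : V →+* V[X])
    have : Module.Flat S R := IsLocalization.flat _ Q.primeCompl
    have : Module.Flat V[X] R := Module.Flat.trans V[X] S R
    have hfib : (fibreIdeal (V := V) Q) = η.map (algebraMap V[X] R) := by
      rw [Ideal.map_map, ← Polynomial.algebraMap_eq, ← IsScalarTower.algebraMap_eq]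
    have : Module.Flat (V[X] ⧸ η) ((V[X] ⧸ η) ⊗[V[X]] R) := inferInstance
    have h1 : ((Ideal.Quotient.mk η 1) ⊗ₜ[V[X]] (1 : R)) ∈ Submodule.torsion (V[X] ⧸ η) ((V[X] ⧸ η) ⊗[V[X]] R) :=
      ⟨⟨Ideal.Quotient.mk η f, mem_nonZeroDivisors_of_ne_zero (mt Ideal.Quotient.eq_zero_iff_mem.1 hf')⟩, by
        show (Ideal.Quotient.mk η f) • ((Ideal.Quotient.mk η 1) ⊗ₜ[V[X]] (1 : R)) = 0
        refine (TensorProduct.quotTensorEquivQuotSMul R η).map_eq_zero_iff.1 ?_
        rw [TensorProduct.smul_tmul', smul_eq_mul, ← map_mul, mul_one,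
          TensorProduct.quotTensorEquivQuotSMul_mk_tmul, Submodule.Quotient.mk_eq_zero, Ideal.smul_top_eq_map,
          Submodule.restrictScalars_mem, ← hfib, Algebra.smul_def, mul_one, IsScalarTower.algebraMap_apply V[X] S R]
        exact hf⟩
    rw [Module.Flat.torsion_eq_bot, Submodule.mem_bot] at h1
    have h2 := congrArg (TensorProduct.quotTensorEquivQuotSMul R η) h1
    rw [map_zero, TensorProduct.quotTensorEquivQuotSMul_mk_tmul, one_smul, Submodule.Quotient.mk_eq_zero,
      Ideal.smul_top_eq_map, Submodule.restrictScalars_mem, ← hfib] at h2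
    exact hp.ne_top ((Ideal.eq_top_iff_one _).2 h2)
  · rw [Ideal.map_le_iff_le_comap]
    intro a ha
    show algebraMap S _ (algebraMap V[X] S (C a)) ∈ fibreIdeal (V := V) Q
    rw [← Polynomial.algebraMap_eq, ← IsScalarTower.algebraMap_apply, ← IsScalarTower.algebraMap_apply]
    exact Ideal.mem_map_of_mem _ ha

set_option maxHeartbeats 800000 in
/-- Content decomposition. -/
theorem exists_content_local (hQ : Q.comap (algebraMap V S) = maximalIdeal V) (x : Localization.AtPrime Q)
    (hx : x ≠ 0) : ∃ (γ : V) (x₁ : Localization.AtPrime Q), γ ≠ 0 ∧ x₁ ∉ fibreIdeal (V := V) Q ∧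
      x = algebraMap V (Localization.AtPrime Q) γ * x₁ := by
  have hp := isPrime_fibreIdeal Q hQ
  let R := Localization.AtPrime Q
  let η := (maximalIdeal V).map (C : V →+* V[X])
  let A := Localization.AtPrime η
  have := valuationRing_gauss (V := V)
  have : IsDomain A := IsLocalization.isDomain_of_atPrime A η
  let P₁ : Ideal S := (fibreIdeal (V := V) Q).comap (algebraMap S R)
  have : P₁.IsPrime := Ideal.IsPrime.comap _
  have hP₁ : P₁.comap (algebraMap V[X] S) = η := comap_fibreIdeal Q hQ
  let R' := Localization.AtPrime P₁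
  let ψ : A →+* R' := IsLocalization.lift (M := η.primeCompl) (g := algebraMap V[X] R') fun f => by
    rw [IsScalarTower.algebraMap_apply V[X] S R']
    refine IsLocalization.map_units R' (⟨algebraMap V[X] S (f : V[X]), fun h => f.2 ?_⟩ : P₁.primeCompl)
    exact hP₁.le h
  let ψ' : A →ₐ[V[X]] R' := { ψ with commutes' := fun f => IsLocalization.lift_eq _ _ }
  let Ψ : A ⊗[V[X]] S →ₐ[V[X]] R' :=
    Algebra.TensorProduct.lift ψ' (IsScalarTower.toAlgHom V[X] S R') fun _ _ => Commute.all _ _
  let m : Ideal (A ⊗[V[X]] S) := (maximalIdeal R').comap Ψ.toRingHom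
  have : m.IsPrime := Ideal.IsPrime.comap _
  have hψloc : IsLocalHom ψ := ⟨fun a ha => by
    obtain ⟨f, t, rfl⟩ := IsLocalization.exists_mk'_eq η.primeCompl a
    by_contra hf
    rw [IsLocalization.AtPrime.isUnit_mk'_iff A η] at hf
    change ¬ (f ∉ η) at hf
    rw [not_not, ← hP₁] at hf
    rw [IsLocalization.lift_mk'] at ha
    exact ((IsLocalization.AtPrime.isUnit_to_map_iff R' P₁ (algebraMap V[X] S f)).1
      (by rw [← IsScalarTower.algebraMap_apply]; exact isUnit_of_mul_isUnit_left ha)) hf⟩
  have hm : m.comap (algebraMap A (A ⊗[V[X]] S)) = maximalIdeal A := by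
    have h := ((IsLocalRing.local_hom_TFAE ψ).out 0 4).1 hψloc
    rw [← h, Ideal.comap_comap]
    congr 1
    exact RingHom.ext fun a => by simp [Ψ, ψ']
  obtain ⟨-, -, -, hval⟩ := EtAlg23.etale_valuation_local (A := A) (B := A ⊗[V[X]] S) m hm
  let L₂ := Localization.AtPrime m
  let θ : L₂ →+* R' := IsLocalization.lift (M := m.primeCompl) (g := Ψ.toRingHom) fun z => by
    by_contra h
    exact z.2 ((IsLocalRing.mem_maximalIdeal _).2 h)
  obtain ⟨a₀, σ, rfl⟩ := IsLocalization.exists_mk'_eq Q.primeCompl x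
  -- zero in the generic local ring of the special fibre means zero
  have hR' : ∀ s : S, algebraMap S R' s = 0 → algebraMap S R s = 0 := fun s hs => by
    obtain ⟨τ, hτ⟩ := (IsLocalization.map_eq_zero_iff P₁.primeCompl R' s).1 hs
    exact injective_mul_left Q hQ τ.2 (by rw [← map_mul, hτ, map_zero])
  have ha₀ : algebraMap S R a₀ ≠ 0 := fun h => hx (by
    apply (IsLocalization.map_units R σ).mul_left_injective
    show IsLocalization.mk' R a₀ σ * algebraMap S R σ = 0 * algebraMap S R σ
    rw [IsLocalization.mk'_spec, h, zero_mul])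
  let z : L₂ := algebraMap (A ⊗[V[X]] S) L₂ (1 ⊗ₜ a₀)
  have hθz : θ z = algebraMap S R' a₀ := by
    refine (IsLocalization.lift_eq _ _).trans ?_
    show Ψ (1 ⊗ₜ a₀) = _
    rw [Algebra.TensorProduct.lift_tmul, map_one, one_mul]
    rfl
  have hz : z ≠ 0 := fun h => ha₀ (hR' _ (by rw [← hθz, h, map_zero]))
  obtain ⟨a, w, hzw⟩ := hval z hz
  obtain ⟨f, t, rfl⟩ := IsLocalization.exists_mk'_eq η.primeCompl a
  have hf : f ≠ 0 := by
    rintro rfl
    exact hz (by rw [hzw, IsLocalization.mk'_zero, map_zero, mul_zero])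
  obtain ⟨γ, f₀, hγ, rfl, hf₀⟩ := exists_content f hf
  have h1 : algebraMap S R' a₀ = θ w * ψ (IsLocalization.mk' A (C γ * f₀) t) := by
    rw [← hθz, hzw, map_mul, IsScalarTower.algebraMap_apply A (A ⊗[V[X]] S) L₂]
    congr 1
    refine (IsLocalization.lift_eq _ _).trans ?_
    show Ψ (algebraMap A (A ⊗[V[X]] S) _) = _
    rw [Algebra.TensorProduct.algebraMap_apply, Algebra.TensorProduct.lift_tmul, map_one, mul_one]
    rfl
  have hunit : IsUnit (θ w * ψ (IsLocalization.mk' A f₀ t)) :=
    (w.isUnit.map θ).mul ((show IsUnit (IsLocalization.mk' A f₀ t) from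
      (IsLocalization.AtPrime.isUnit_mk'_iff A η _ _).2 hf₀).map ψ)
  have h2 : algebraMap S R' a₀ = algebraMap V R' γ * (hunit.unit : R') := by
    rw [h1, IsUnit.unit_spec, mul_left_comm]
    congr 1
    rw [← IsLocalization.mul_mk'_eq_mk'_of_mul, map_mul, IsLocalization.lift_eq, ← Polynomial.algebraMap_eq,
      ← IsScalarTower.algebraMap_apply]
  obtain ⟨p, τ, hpτ⟩ := IsLocalization.exists_mk'_eq P₁.primeCompl (hunit.unit : R')
  have hp' : p ∈ P₁.primeCompl := (IsLocalization.AtPrime.isUnit_mk'_iff R' P₁ p τ).1 (hpτ ▸ hunit.unit.isUnit)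
  have h3 : algebraMap S R' (a₀ * (τ : S) - algebraMap V S γ * p) = 0 := by
    rw [map_sub, map_mul, map_mul, sub_eq_zero, h2, ← IsScalarTower.algebraMap_apply, ← hpτ, mul_assoc,
      IsLocalization.mk'_spec]
  have h4 : algebraMap S R (τ : S) * algebraMap S R a₀ = algebraMap V R γ * algebraMap S R p := by
    have h := hR' _ h3
    rw [map_sub, sub_eq_zero, map_mul, map_mul, ← IsScalarTower.algebraMap_apply] at h
    rwa [mul_comm]
  obtain ⟨x₁, hx₁⟩ := Ideal.mem_span_singleton.1
    (mem_span_of_mul_mem Q hQ τ.2 γ (Ideal.mem_span_singleton.2 ⟨_, h4⟩))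
  have h5 : algebraMap S R (τ : S) * x₁ = algebraMap S R p := by
    rw [← sub_eq_zero]
    refine algebraMap_ne_zero Q hQ hγ ?_
    rw [mul_sub, ← h4, hx₁]
    ring
  refine ⟨γ, x₁ * IsLocalization.mk' R 1 σ, hγ, fun h => ?_, ?_⟩
  · have h6 : x₁ ∈ fibreIdeal (V := V) Q := by
      have := Ideal.mul_mem_right (algebraMap S R σ) _ h
      rwa [mul_assoc, IsLocalization.mk'_spec, map_one, mul_one] at this
    exact hp' (show algebraMap S R p ∈ fibreIdeal (V := V) Q from h5 ▸ Ideal.mul_mem_left _ _ h6)
  · rw [← mul_assoc, ← hx₁, ← IsLocalization.mk'_eq_mul_mk'_one]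

/-- The local rings are domains. -/
theorem isDomain_local (hQ : Q.comap (algebraMap V S) = maximalIdeal V) : IsDomain (Localization.AtPrime Q) := by
  refine @NoZeroDivisors.to_isDomain _ _ inferInstance ⟨fun {x y} hxy => ?_⟩
  by_contra h
  rw [not_or] at h
  obtain ⟨γ, x₁, hγ, hx₁, rfl⟩ := exists_content_local Q hQ x h.1
  rw [mul_assoc] at hxy
  exact h.2 (injective_mul_left Q hQ hx₁ (algebraMap_ne_zero Q hQ hγ hxy))

theorem injective_algebraMap_local (hQ : Q.comap (algebraMap V S) = maximalIdeal V) :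
    Function.Injective (algebraMap V[X] (Localization.AtPrime Q)) := by
  have : Module.Flat S (Localization.AtPrime Q) := IsLocalization.flat _ Q.primeCompl
  have : Module.Flat V[X] (Localization.AtPrime Q) := Module.Flat.trans V[X] S _
  rw [injective_iff_map_eq_zero]
  intro f hf
  by_contra hf0
  have h1 : (1 : Localization.AtPrime Q) ∈ Submodule.torsion V[X] (Localization.AtPrime Q) :=
    ⟨⟨f, mem_nonZeroDivisors_of_ne_zero hf0⟩, by
      show f • (1 : Localization.AtPrime Q) = 0
      rw [Algebra.smul_def, hf, zero_mul]⟩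
  rw [Module.Flat.torsion_eq_bot, Submodule.mem_bot] at h1
  exact one_ne_zero h1

/-- Nonzero elements divide nonzero polynomials. -/
theorem exists_dvd_polynomial (hQ : Q.comap (algebraMap V S) = maximalIdeal V) (x : Localization.AtPrime Q)
    (hx : x ≠ 0) : ∃ f : V[X], f ≠ 0 ∧ x ∣ algebraMap V[X] (Localization.AtPrime Q) f := by
  let R := Localization.AtPrime Q
  have := isDomain_local Q hQ
  obtain ⟨a, σ, rfl⟩ := IsLocalization.exists_mk'_eq Q.primeCompl x
  have ha : algebraMap S R a ≠ 0 := fun h => hx (by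
    apply (IsLocalization.map_units R σ).mul_left_injective
    show IsLocalization.mk' R a σ * algebraMap S R σ = 0 * algebraMap S R σ
    rw [IsLocalization.mk'_spec, h, zero_mul])
  let F := FractionRing V[X]
  let L := FractionRing R
  have hinj : Function.Injective (algebraMap V[X] L) := by
    rw [IsScalarTower.algebraMap_eq V[X] R L]
    exact (IsFractionRing.injective R L).comp (injective_algebraMap_local Q hQ)
  have : FaithfulSMul V[X] L := (faithfulSMul_iff_algebraMap_injective V[X] L).2 hinj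
  letI : Algebra F L := FractionRing.liftAlgebra V[X] L
  have : IsScalarTower V[X] F L := FractionRing.isScalarTower_liftAlgebra V[X] L
  let Φ : F ⊗[V[X]] S →ₐ[F] L := Algebra.TensorProduct.lift (Algebra.ofId F L)
    (IsScalarTower.toAlgHom V[X] S L) (fun _ _ => Commute.all _ _)
  have : Module.Free F (F ⊗[V[X]] S) := Module.Free.of_divisionRing F _
  have : Module.Finite F (F ⊗[V[X]] S) := Algebra.FormallyUnramified.finite_of_free F _
  have h1 : IsIntegral F (Φ (1 ⊗ₜ a)) := (IsIntegral.of_finite F (1 ⊗ₜ[V[X]] a : F ⊗[V[X]] S)).map Φ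
  have h2 : Φ (1 ⊗ₜ a) = algebraMap R L (algebraMap S R a) := by
    rw [Algebra.TensorProduct.lift_tmul, map_one, one_mul, IsScalarTower.coe_toAlgHom',
      IsScalarTower.algebraMap_apply S R L]
  rw [h2] at h1
  have h3 : IsAlgebraic V[X] (algebraMap R L (algebraMap S R a)) :=
    (IsFractionRing.isAlgebraic_iff V[X] F L).2 h1.isAlgebraic
  rw [isAlgebraic_algebraMap_iff (IsFractionRing.injective R L)] at h3
  obtain ⟨f, hf, hdvd⟩ := h3.exists_nonzero_dvd (mem_nonZeroDivisors_of_ne_zero ha)
  refine ⟨f, hf, dvd_trans ?_ hdvd⟩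
  exact ⟨algebraMap S R σ, (IsLocalization.mk'_spec R a σ).symm⟩

end Groth.Agent.SBC51
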